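import Groth.Prelude.Def_EGA4b
import Groth.Agent.CalgB.RegHom7
import Groth.Agent.Ega4A.CplFlat
import Groth.Agent.Ega4A.CplQuot

/-!
# A local homomorphism inducing an isomorphism on completions has geometrically regular fibres

`A → B` a homomorphism of Noetherian local rings with `A / m_A ^ n → B / m_B ^ n` bijective for
every `n`.  Then `Cpl A = Cpl B`; if `A → Cpl A` is a regular homomorphism then so is `A → B`.
-/

set_option autoImplicit false

universe u

open IsLocalRing EGA4

namespace Groth.Agent.Gaga.H987.RegularFibres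

variable (A B : Type u) [CommRing A] [CommRing B] [IsLocalRing A] [IsLocalRing B]
  [Algebra A B]

/-- The hypotheses of the comparison: `A → B` is a local homomorphism inducing a bijection
`A / m_A ^ n → B / m_B ^ n` for every `n`. -/
structure SameCpl : Prop where
  le_comap : maximalIdeal A ≤ (maximalIdeal B).comap (algebraMap A B)
  surj : ∀ (n : ℕ) (b : B), ∃ a : A, algebraMap A B a - b ∈ (maximalIdeal B) ^ n
  inj : ∀ (n : ℕ) (a : A), algebraMap A B a ∈ (maximalIdeal B) ^ n → a ∈ (maximalIdeal A) ^ n

variable {A B}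

theorem SameCpl.quotMap_bijective (h : SameCpl A B) (n : ℕ) :
    Function.Bijective (Groth.Agent.CurvesB.CplMap.quotMap (maximalIdeal A) (maximalIdeal B)
      (algebraMap A B) h.le_comap n) := by
  constructor
  · rw [injective_iff_map_eq_zero]
    intro x hx
    obtain ⟨a, rfl⟩ := Ideal.Quotient.mk_surjective x
    rw [Groth.Agent.CurvesB.CplMap.quotMap_mk, Ideal.Quotient.eq_zero_iff_mem] at hx
    rw [Ideal.Quotient.eq_zero_iff_mem]
    exact h.inj n a hx
  · intro y
    obtain ⟨b, rfl⟩ := Ideal.Quotient.mk_surjective y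
    obtain ⟨a, ha⟩ := h.surj n b
    refine ⟨Ideal.Quotient.mk _ a, ?_⟩
    rw [Groth.Agent.CurvesB.CplMap.quotMap_mk]
    exact Ideal.Quotient.eq.mpr ha

/-- The isomorphism `Cpl A = Cpl B`. -/
noncomputable def SameCpl.equiv (h : SameCpl A B) : Cpl A ≃+* Cpl B :=
  Groth.Agent.CurvesB.CplMap.equivOfBijective (maximalIdeal A) (maximalIdeal B)
    (algebraMap A B) h.le_comap h.quotMap_bijective

theorem SameCpl.equiv_algebraMap (h : SameCpl A B) (a : A) :
    h.equiv (algebraMap A (Cpl A) a) = algebraMap B (Cpl B) (algebraMap A B a) :=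
  Groth.Agent.CurvesB.CplMap.equivOfBijective_algebraMap _ _ _ _ _ a

/-- `A → Cpl B` is a regular homomorphism if `A → Cpl A` is. -/
theorem SameCpl.isRegularHom_cpl [IsNoetherianRing B] (h : SameCpl A B)
    (hG : CAlg.IsRegularHom A (Cpl A)) : CAlg.IsRegularHom A (Cpl B) := by
  let _ : Algebra (Cpl A) (Cpl B) := h.equiv.toRingHom.toAlgebra
  have hNB : IsNoetherianRing (Cpl B) := Groth.Agent.Ega4A.CplQuot.isNoetherianRing_cpl B
  have hb : Function.Bijective (algebraMap (Cpl A) (Cpl B)) := h.equiv.bijective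
  have hM : IsLocalization (⊥ : Submonoid (Cpl A)) (Cpl B) :=
    IsLocalization.of_le_isUnit_of_bijective (by
      rintro _ ⟨x, hx, rfl⟩
      have hx' : x = 1 := hx
      rw [hx', map_one]
      exact isUnit_one) hb
  have h1 : CAlg.IsRegularHom (Cpl A) (Cpl B) :=
    Groth.Agent.CalgB.RegHom7.isRegularHom_of_isLocalization (Cpl B) (⊥ : Submonoid (Cpl A))
  have h4 : IsScalarTower A B (Cpl B) := IsScalarTower.of_algebraMap_eq fun x => rfl
  have h6 : IsScalarTower A (Cpl A) (Cpl B) :=
    IsScalarTower.of_algebraMap_eq fun x => (h.equiv_algebraMap x).symm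
  exact Groth.Agent.CalgB.RegHom6.isRegularHom_comp hG h1

/-- If `A → Cpl A` is a regular homomorphism (e.g. `A` a local ring of a G-ring), and `A → B`
induces an isomorphism on completions, then `A → B` is a regular homomorphism: flat with
geometrically regular fibres. -/
theorem SameCpl.isRegularHom [IsNoetherianRing B] (h : SameCpl A B)
    (hG : CAlg.IsRegularHom A (Cpl A)) : CAlg.IsRegularHom A B := by
  have h4 : IsScalarTower A B (Cpl B) := IsScalarTower.of_algebraMap_eq fun x => rfl
  have hff : Module.FaithfullyFlat B (Cpl B) := Groth.Agent.Ega4A.CplQuot.faithfullyFlat_cpl B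
  exact Groth.Agent.CalgB.RegHom7.isRegularHom_of_faithfullyFlat (T := Cpl B)
    (h.isRegularHom_cpl hG)

end Groth.Agent.Gaga.H987.RegularFibres
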